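import Groth.Agent.EGA43.DimFormula.Core
import Groth.Agent.EGA43.CMChart.Main
import Groth.Agent.EGA43.FlatBC.SpecBase
import Groth.Agent.EGA43.UnivOpen.DvrComponents
import Groth.Agent.H8ProCons.Image
import Mathlib.RingTheory.Flat.TorsionFree
import Mathlib.RingTheory.DiscreteValuationRing.Basic

/-!
# EGA IV 15.2.3 over a discrete valuation ring: open and reduced fibre give flatness
-/

set_option autoImplicit false
set_option backward.isDefEq.respectTransparency false
set_option linter.style.haveILetI false

universe u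

open CategoryTheory CategoryTheory.Limits AlgebraicGeometry IsLocalRing

namespace Groth.Agent.EGA43.DvrFlat

open Groth.Agent Groth.Agent.EGA43.DimFormula

/-- A non-minimal element with reduced quotient is regular and the ring is reduced. -/
theorem isReduced_and_isSMulRegular {B : Type u} [CommRing B] [IsLocalRing B] [IsNoetherianRing B] (t : B)
    (ht : t ∈ maximalIdeal B) (hred : _root_.IsReduced (B ⧸ Ideal.span {t})) (hmin : ∀ P ∈ minimalPrimes B, t ∉ P) :
    _root_.IsReduced B ∧ IsSMulRegular B t := by
  have hNeq : nilradical B = sInf (minimalPrimes B) := (Ideal.sInf_minimalPrimes).symm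
  have hN : nilradical B = ⊥ := by
    refine Submodule.eq_bot_of_le_smul_of_le_jacobson_bot (Ideal.span {t}) (nilradical B)
      (IsNoetherian.noetherian _) ?_ ?_
    · intro z hz
      have h0 : Ideal.Quotient.mk (Ideal.span {t}) z = 0 :=
        ((mem_nilradical.1 hz).map (Ideal.Quotient.mk (Ideal.span {t}))).eq_zero
      obtain ⟨y, rfl⟩ := Ideal.mem_span_singleton'.1 (Ideal.Quotient.eq_zero_iff_mem.1 h0)
      rw [mul_comm, ← smul_eq_mul]
      refine Submodule.smul_mem_smul (Ideal.mem_span_singleton_self t) ?_
      rw [hNeq] at hz ⊢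
      simp only [Submodule.mem_sInf] at hz ⊢
      exact fun P hP => (hP.isPrime.mem_or_mem (hz P hP)).resolve_right (hmin P hP)
    · rw [IsLocalRing.jacobson_eq_maximalIdeal ⊥ bot_ne_top, Ideal.span_le, Set.singleton_subset_iff]
      exact ht
  haveI : _root_.IsReduced B := ⟨fun z hz => by simpa [hN] using mem_nilradical.2 hz⟩
  refine ⟨inferInstance, fun a b hab => ?_⟩
  rw [← sub_eq_zero]
  have h0 : a - b ∈ nilradical B := by
    rw [hNeq, Submodule.mem_sInf]
    intro P hP
    refine (hP.isPrime.mem_or_mem (x := t) ?_).resolve_left (hmin P hP)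
    rw [mul_sub, show t * a = t * b from hab, sub_self]
    exact zero_mem P
  rwa [hN, Ideal.mem_bot] at h0

/-- A regular uniformizer gives flatness. -/
theorem flat_of_isSMulRegular {A B : Type u} [CommRing A] [IsDomain A] [IsDiscreteValuationRing A] [CommRing B]
    [Algebra A B] {π : A} (hπ : Irreducible π) (h : IsSMulRegular B (algebraMap A B π)) : Module.Flat A B := by
  rw [Module.Flat.flat_iff_torsion_eq_bot_of_isBezout, eq_bot_iff]
  rintro z ⟨⟨a, ha⟩, haz⟩
  obtain ⟨n, u, rfl⟩ := IsDiscreteValuationRing.eq_unit_mul_pow_irreducible (nonZeroDivisors.ne_zero ha) hπ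
  rw [Submonoid.mk_smul, Algebra.smul_def, map_mul, mul_assoc, (u.isUnit.map (algebraMap A B)).mul_right_eq_zero,
    map_pow] at haz
  rw [Submodule.mem_bot]
  exact (h.pow n) (haz.trans (mul_zero ((algebraMap A B π) ^ n)).symm)

/-- EGA IV 15.2.3 over a discrete valuation ring. -/
theorem flat_and_isReduced_of_openAt {A : Type u} [CommRing A] [IsDomain A]
    [IsDiscreteValuationRing A] {X : Scheme.{u}} (f : X ⟶ Spec (CommRingCat.of A)) [LocallyOfFiniteType f] (x : X)
    (hx : f.base x = IsLocalRing.closedPoint A)
    (h : ∀ z : ↥(f.fiber (f.base x)), f.asFiber x ∈ closure {z} →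
      (∀ z' : ↥(f.fiber (f.base x)), z ∈ closure {z'} → z' = z) → EGA43.IsOpenAt f.base ((f.fiberι (f.base x)).base z))
    (hred : _root_.IsReduced ((f.fiber (f.base x)).presheaf.stalk (f.asFiber x))) :
    (f.stalkMap x).hom.Flat ∧ _root_.IsReduced (X.presheaf.stalk x) := by
  haveI : IsLocallyNoetherian X := LocallyOfFiniteType.isLocallyNoetherian f
  have hb : Function.Bijective (StructureSheaf.toStalk (CommRingCat.of A) (f x)).hom :=
    FlatBC.toStalk_bijective A (f x) (congrArg PrimeSpectrum.asIdeal hx)
  obtain ⟨π, hπ⟩ := IsDiscreteValuationRing.exists_irreducible A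
  let e : A ≃+* (Spec (CommRingCat.of A)).presheaf.stalk (f x) := RingEquiv.ofBijective _ hb
  let t : X.presheaf.stalk x := (f.stalkMap x).hom (e π)
  have hspan : (maximalIdeal ((Spec (CommRingCat.of A)).presheaf.stalk (f x))).map (f.stalkMap x).hom =
      Ideal.span {t} := by
    rw [← IsLocalRing.map_maximalIdeal_of_surjective e.toRingHom e.surjective, hπ.maximalIdeal_eq, Ideal.map_span,
      Ideal.map_span, Set.image_singleton, Set.image_singleton]
    rfl
  have ht : t ∈ maximalIdeal (X.presheaf.stalk x) := by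
    refine map_nonunit (f.stalkMap x).hom _ ?_
    rw [← IsLocalRing.map_maximalIdeal_of_surjective e.toRingHom e.surjective]
    exact Ideal.mem_map_of_mem _ (hπ.maximalIdeal_eq ▸ Ideal.mem_span_singleton_self π)
  obtain ⟨eq⟩ := CMChart.exists_fibre_stalk_equiv f x
  haveI : _root_.IsReduced (X.presheaf.stalk x ⧸ Ideal.span {t}) := by
    rw [← hspan]
    exact isReduced_of_injective eq.toRingHom eq.injective
  have hmin : ∀ P ∈ minimalPrimes (X.presheaf.stalk x), t ∉ P := by
    intro P hP htP
    let P' : PrimeSpectrum (X.presheaf.stalk x) := ⟨P, hP.isPrime⟩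
    have hPy : f (toPt x P') = f x := (mem_fibre_iff_le f x P').1 (by
      rw [hspan, Ideal.span_le, Set.singleton_subset_iff]; exact htP)
    have hmax := (mem_minimalPrimes_iff x P').1 hP
    obtain ⟨zz, hzz⟩ : toPt x P' ∈ Set.range (f.fiberι (f x)) := by rw [f.range_fiberι]; exact hPy
    have hopen := h zz (by
      rw [← specializes_iff_mem_closure, ← (f.fiberι (f x)).isEmbedding.specializes_iff, hzz, f.fiberι_asFiber]
      exact toPt_specializes x P') fun z' hz' => (f.fiberι (f x)).isEmbedding.injective <| by
        rw [hzz]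
        refine hmax _ ?_
        rw [← hzz]
        exact (specializes_iff_mem_closure.2 hz').map (f.fiberι (f x)).continuous
    rw [hzz] at hopen
    obtain ⟨z', hz', hfz'⟩ := H8ProCons.exists_generization_of_isOpenAt f hopen
      (y' := genericPoint (Spec (CommRingCat.of A))) (genericPoint_specializes _)
    rw [hmax z' hz', hPy] at hfz'
    exact UnivOpen.genericPoint_ne_closedPoint (hfz'.symm.trans hx)
  obtain ⟨hredX, hreg⟩ := isReduced_and_isSMulRegular t ht inferInstance hmin
  refine ⟨?_, hredX⟩
  letI : Algebra A (X.presheaf.stalk x) := ((f.stalkMap x).hom.comp e.toRingHom).toAlgebra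
  have hAB : ((f.stalkMap x).hom.comp e.toRingHom).Flat := flat_of_isSMulRegular hπ hreg
  have heq : (f.stalkMap x).hom = ((f.stalkMap x).hom.comp e.toRingHom).comp e.symm.toRingHom := by
    ext r; simp
  rw [heq]
  exact RingHom.Flat.comp (RingHom.Flat.of_bijective e.symm.bijective) hAB

end Groth.Agent.EGA43.DvrFlat
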